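import Groth.Agent.Pi1.H386.WittBase
import Groth.Agent.Pi1.H386.FullConn
import Groth.Agent.Pi1.H381.SpecConn
import Groth.Agent.Pi1A.FEtAffine
import Groth.Agent.Pi1A.Clopen
import Groth.Agent.Flat2B.SmoothGeom
import Mathlib.FieldTheory.IsAlgClosed.AlgebraicClosure
import Mathlib.Topology.KrullDimension

/-!
# Lifting smooth proper curves to characteristic zero and finite étale covers
-/

set_option autoImplicit false
universe u
open CategoryTheory CategoryTheory.Limits AlgebraicGeometry TopologicalSpace

namespace Groth.Agent.Pi1.H386.CharPLift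

/-- The statement S3708: smooth proper curves lift over complete Noetherian local rings. -/
def LiftStmt : Prop :=
  ∀ (A : Type u) [CommRing A] [IsLocalRing A] [IsNoetherianRing A]
    [IsAdicComplete (IsLocalRing.maximalIdeal A) A] {X₀ : Scheme.{u}}
    (f₀ : X₀ ⟶ Spec (CommRingCat.of (IsLocalRing.ResidueField A))) [Smooth f₀] [IsProper f₀]
    (_ : topologicalKrullDim X₀ = 1),
    ∃ (X : Scheme.{u}) (f : X ⟶ Spec (CommRingCat.of A)) (_ : Smooth f) (_ : IsProper f)
      (e : X₀ ≅ pullback f (Spec.map (CommRingCat.ofHom (IsLocalRing.residue A)))),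
      e.hom ≫ pullback.snd f _ = f₀

/-- The statement S0240: finite étale covers of proper schemes over henselian local rings. -/
def HensStmt : Prop :=
  ∀ (A : Type u) [CommRing A] [HenselianLocalRing A] {X : Scheme.{u}}
    (f : X ⟶ Spec (CommRingCat.of A)) [IsProper f],
    (FEt.restrict (pullback.fst f (Spec.map (CommRingCat.ofHom (IsLocalRing.residue A))))).IsEquivalence

/-- If restriction of finite étale covers along `j : X ⟶ Y` is an equivalence and `X` is connected, then so is `Y`. -/
theorem connectedSpace_of_isEquivalence {X Y : Scheme.{u}} (j : X ⟶ Y) [(FEt.restrict j).IsEquivalence]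
    [ConnectedSpace X] : ConnectedSpace Y := by
  have hne : Nonempty Y := by
    obtain ⟨x⟩ := (inferInstance : Nonempty X)
    exact ⟨j x⟩
  have key : ∀ V : Set Y, IsClopen V → j ⁻¹' V = ∅ → V = ∅ := by
    intro V hV h
    have := Groth.Agent.Pi1A.Clopen.eq_bot_of_preimage_eq_bot j ⟨V, hV.isOpen⟩ hV.isClosed
      (TopologicalSpace.Opens.ext h)
    exact congr(($this : Set Y))
  have hpre : PreconnectedSpace Y := by
    rw [preconnectedSpace_iff_clopen]
    intro V hV
    rcases isClopen_iff.mp (hV.preimage j.continuous) with h | h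
    · exact Or.inl (key V hV h)
    · right
      have h1 : j ⁻¹' Vᶜ = ∅ := by rw [Set.preimage_compl, h, Set.compl_univ]
      exact Set.compl_empty_iff.mp (key _ hV.compl h1)
  exact { toPreconnectedSpace := hpre, toNonempty := hne }

/-- If `FEt.restrict f` is full, `X` is connected and `Y` nonempty, then `Y` is connected. -/
theorem connectedSpace_of_full' {X Y : Scheme.{u}} (f : Y ⟶ X) [(FEt.restrict f).Full] [ConnectedSpace X]
    [Nonempty Y] : ConnectedSpace Y := by
  let T : FEt.Cat X := MorphismProperty.Over.mk ⊤ (𝟙 X) (FEt.prop.id_mem X)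
  have hT : ConnectedSpace T.left := inferInstanceAs (ConnectedSpace X)
  have h1 : ConnectedSpace ↥(pullback (𝟙 X) f) := FullConn.connectedSpace_of_full f T
  have h2 : IsIso (pullback.snd (𝟙 X) f) := inferInstance
  have h3 : Function.Surjective (pullback.snd (𝟙 X) f) := (pullback.snd (𝟙 X) f).surjective
  exact h3.connectedSpace (pullback.snd (𝟙 X) f).continuous

/-- **Lifting to characteristic zero.** A smooth proper connected curve `X` over an algebraically closed field of
characteristic `p` has the same finite étale covers as a scheme `𝒳`, on which connected finite étale covers stay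
connected when pulled back to a smooth proper connected scheme `Y` over an algebraically closed field of
characteristic zero. -/
theorem exists_lift (hhens : HensStmt.{u}) (hlift : LiftStmt.{u}) (p : ℕ) [Fact p.Prime] (k : Type u) [Field k] [IsAlgClosed k] [CharP k p]
    {X : Scheme.{u}} (pX : X ⟶ Spec (CommRingCat.of k)) [Smooth pX] [IsProper pX] [ConnectedSpace X]
    (hdim : topologicalKrullDim X = 1) :
    ∃ (K : Type u) (_ : Field K) (_ : IsAlgClosed K) (_ : CharZero K) (Y Xt : Scheme.{u})
      (pY : Y ⟶ Spec (CommRingCat.of K)) (q : Y ⟶ Xt) (j : X ⟶ Xt),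
      IsProper pY ∧ Smooth pY ∧ ConnectedSpace Y ∧ ConnectedSpace Xt ∧ (FEt.restrict j).IsEquivalence ∧
        (FEt.restrict q).Full ∧ (FEt.restrict q).Faithful ∧
        ∀ Z : FEt.Cat Xt, ConnectedSpace Z.left → ConnectedSpace ((FEt.restrict q).obj Z).left := by
  have : PerfectRing k p := inferInstance
  obtain ⟨A, _, _, _, _, _, _, ⟨φ⟩⟩ := WittBase.exists_base p k
  have : HenselianLocalRing A := WittBase.henselianLocalRing_of_complete A
  have : IsAlgClosed (IsLocalRing.ResidueField A) := IsAlgClosed.of_ringEquiv k _ φ.symm
  let ψ : Spec (CommRingCat.of k) ≅ Spec (CommRingCat.of (IsLocalRing.ResidueField A)) :=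
    Scheme.Spec.mapIso φ.toCommRingCatIso.op
  obtain ⟨Xt, f, hf1, hf2, e, -⟩ := hlift A (pX ≫ ψ.hom) hdim
  let j : X ⟶ Xt := e.hom ≫ pullback.fst f _
  have hj : (FEt.restrict j).IsEquivalence := by
    have h1 := hhens A f
    have h2 : (FEt.restrict e.hom).IsEquivalence := inferInstance
    exact Pi1A.FEtAffine.restrict_isEquivalence_comp e.hom _
  have hXt : ConnectedSpace Xt := connectedSpace_of_isEquivalence j
  let L := FractionRing A
  let K := AlgebraicClosure L
  have : CharZero L := IsFractionRing.charZero A
  have : CharZero K := algebraRat.charZero K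
  let t : Spec (CommRingCat.of K) ⟶ Spec (CommRingCat.of A) :=
    Spec.map (CommRingCat.ofHom ((algebraMap L K).comp (algebraMap A L)))
  have hgr : GeometricallyReduced f := Flat2B.SmoothGeom.geometricallyReduced_of_smooth f
  obtain ⟨hfull, hfaith⟩ := Groth.Agent.Pi1.H381.SpecConn.main A f K t
  have hne : Nonempty ↥(pullback f t) := by
    obtain ⟨x⟩ := (inferInstance : Nonempty X)
    let y : ↥(Spec (CommRingCat.of K)) := IsLocalRing.closedPoint K
    have h1 : t y ⤳ f (j x) := by
      have h2 : f (j x) = IsLocalRing.closedPoint A := by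
        have h3 : (e.hom ≫ pullback.fst f _) ≫ f = (e.hom ≫ pullback.snd f _) ≫
            Spec.map (CommRingCat.ofHom (IsLocalRing.residue A)) := by
          rw [Category.assoc, Category.assoc, pullback.condition]
        have h4 : f (j x) = (Spec.map (CommRingCat.ofHom (IsLocalRing.residue A)))
            ((e.hom ≫ pullback.snd f _) x) := by
          rw [← Scheme.Hom.comp_apply, ← Scheme.Hom.comp_apply]
          exact congrArg (fun g => (g : X ⟶ _) x) h3
        rw [h4]
        have h5 : ((e.hom ≫ pullback.snd f _) x) = IsLocalRing.closedPoint (IsLocalRing.ResidueField A) :=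
          Subsingleton.elim _ _
        rw [h5]
        exact IsLocalRing.comap_closedPoint (IsLocalRing.residue A)
      rw [h2]
      exact IsLocalRing.specializes_closedPoint _
    obtain ⟨x', -, hx'⟩ := (Flat.generalizingMap f) h1
    obtain ⟨z, -, -⟩ := Scheme.Pullback.exists_preimage_pullback (f := f) (g := t) x' y hx'
    exact ⟨z⟩
  have hconn : ConnectedSpace ↥(pullback f t) := connectedSpace_of_full' (pullback.fst f t)
  refine ⟨K, inferInstance, inferInstance, inferInstance, pullback f t, Xt, pullback.snd f t, pullback.fst f t, j,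
    inferInstance, inferInstance, hconn, hXt, hj, hfull, hfaith, fun Z hZ =>
      FullConn.connectedSpace_of_full _ Z⟩

end Groth.Agent.Pi1.H386.CharPLift
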