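import Groth.Agent.Fga.HodgeModel
import Groth.Agent.S1585
import Groth.Agent.S2351
import Groth.Agent.Sga5.AmpleFib
import Groth.Agent.Sga3C.DimTop

/-!
# Normal projective models

Every irreducible proper `k`-scheme `X` is the image of a normal integral proper `k`-scheme `Z` which has an ample
module, with `dim Z ≤ dim X`.
-/

set_option autoImplicit false
universe u
open CategoryTheory CategoryTheory.Limits AlgebraicGeometry TopologicalSpace

namespace Groth.Agent.Pi1.H386.NormModel

theorem exists_normal_model (k : Type u) [Field k] {X : Scheme.{u}} (pX : X ⟶ Spec (CommRingCat.of k))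
    [IsProper pX] [IrreducibleSpace X] :
    ∃ (Z : Scheme.{u}) (g : Z ⟶ X), IsIntegral Z ∧ Pi1.IsNormalScheme Z ∧ IsProper g ∧
      Surjective g ∧ topologicalKrullDim Z ≤ topologicalKrullDim X ∧
      ∃ A : Z.Modules, CohB1.IsAmple A := by
  let _ : X.Over (Spec (CommRingCat.of k)) := ⟨pX⟩
  have : IsProper (X ↘ Spec (CommRingCat.of k)) := inferInstanceAs (IsProper pX)
  obtain ⟨W, hWo, g, hW, hWp, hgt, hgs, hdim, A, hA⟩ := Fga.HodgeModel.exists_model k X
  have hq1 : QuasiCompact (W.fromSpecStalk (genericPoint W)) := inferInstance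
  have hq2 : QuasiSeparated (W.fromSpecStalk (genericPoint W)) := inferInstance
  obtain ⟨hfin, hdom, -, hint, hnorm⟩ := Groth.Agent.S1585.result k W
  obtain ⟨_, _, hsurj, _⟩ := Groth.Agent.S2351.result W
  have hgp : IsProper g := by
    have h1 : IsProper (g ≫ (X ↘ Spec (CommRingCat.of k))) := by rw [hgt]; exact hWp
    exact IsProper.of_comp g (X ↘ Spec (CommRingCat.of k))
  refine ⟨Curv2.normalization W, Curv2.normalizationι W ≫ g, hint, hnorm, inferInstance,
    inferInstance, ?_, _, Sga5.AmpleFib.isAmple_pullback (Curv2.normalizationι W) hA⟩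
  rw [Sga3C.DimTop.topologicalKrullDim_eq_of_isIntegralHom (Curv2.normalizationι W)]
  exact hdim

end Groth.Agent.Pi1.H386.NormModel
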