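import Groth.Agent.Pi1.H386.NormModel
import Groth.Agent.Pi1.H386.LefStep

/-!
# An induction principle for proper connected schemes over an algebraically closed field
-/

set_option autoImplicit false
universe u
open CategoryTheory CategoryTheory.Limits AlgebraicGeometry TopologicalSpace

namespace Groth.Agent.Pi1.H386.ProperInduction

variable (k : Type u) [Field k]

/-- A proper scheme over a field is jointly the image of finitely many normal integral proper schemes with an
ample module, of no larger dimension. -/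
theorem exists_cover {X : Scheme.{u}} (pX : X ⟶ Spec (CommRingCat.of k)) [IsProper pX] :
    ∃ (n : ℕ) (Z : Fin n → Scheme.{u}) (g : ∀ i, Z i ⟶ X), (∀ i, IsProper (g i)) ∧
      (∀ i, IsIntegral (Z i)) ∧ (∀ i, Pi1.IsNormalScheme (Z i)) ∧
      (∀ i, ∃ A : (Z i).Modules, CohB1.IsAmple A) ∧
      (∀ i, topologicalKrullDim (Z i) ≤ topologicalKrullDim X) ∧ ∀ x : X, ∃ i, x ∈ Set.range (g i) := by
  have hN : IsNoetherian X := by
    have : IsLocallyNoetherian X := LocallyOfFiniteType.isLocallyNoetherian pX
    have : CompactSpace X := (quasiCompact_iff_compactSpace pX).mp inferInstance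
    exact {}
  have hfin : (irreducibleComponents X).Finite := TopologicalSpace.NoetherianSpace.finite_irreducibleComponents
  obtain ⟨n, ⟨e⟩⟩ : ∃ n : ℕ, Nonempty (irreducibleComponents X ≃ Fin n) := by
    have := hfin.to_subtype
    exact Finite.exists_equiv_fin _
  have key : ∀ C : irreducibleComponents X, ∃ (Z : Scheme.{u}) (g : Z ⟶ X), IsProper g ∧ IsIntegral Z ∧
      Pi1.IsNormalScheme Z ∧ (∃ A : Z.Modules, CohB1.IsAmple A) ∧
      topologicalKrullDim Z ≤ topologicalKrullDim X ∧ C.1 ⊆ Set.range g := by
    rintro ⟨C, hC⟩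
    have hirr : IsIrreducible C := hC.1
    have hcl : IsClosed C := isClosed_of_mem_irreducibleComponents C hC
    obtain ⟨η, hη⟩ := QuasiSober.sober hirr hcl
    obtain ⟨W, i, hi, hW, -, hr⟩ := Fga.IntegralSub.exists_integral_closed η
    have hr' : Set.range i = C := hr.trans hη
    obtain ⟨Z, g, hZ, hZn, hg, hgs, hdim, hA⟩ := NormModel.exists_normal_model k (i ≫ pX)
    refine ⟨Z, g ≫ i, inferInstance, hZ, hZn, hA, hdim.trans ?_, ?_⟩
    · exact i.isClosedEmbedding.isInducing.topologicalKrullDim_le
    · intro c hc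
      have hc' : c ∈ Set.range i := by rw [hr']; exact hc
      obtain ⟨w, rfl⟩ := hc'
      obtain ⟨z, rfl⟩ := g.surjective w
      exact ⟨z, by simp⟩
  choose Z g h1 h2 h3 h4 h5 h6 using key
  refine ⟨n, fun j => Z (e.symm j), fun j => g (e.symm j), fun j => h1 _, fun j => h2 _, fun j => h3 _,
    fun j => h4 _, fun j => h5 _, fun x => ?_⟩
  refine ⟨e ⟨irreducibleComponent x, irreducibleComponent_mem_irreducibleComponents x⟩, ?_⟩
  have h7 : x ∈ Set.range (g ⟨irreducibleComponent x, irreducibleComponent_mem_irreducibleComponents x⟩) :=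
    h6 _ mem_irreducibleComponent
  have h8 := e.symm_apply_apply ⟨irreducibleComponent x, irreducibleComponent_mem_irreducibleComponents x⟩
  change x ∈ Set.range (g (e.symm (e _)))
  rw [h8]
  exact h7

/-- **Induction principle** for proper connected schemes over a field: a property which descends along finite
families of proper jointly surjective morphisms from integral schemes, and along closed immersions with fully
faithful restriction of finite étale covers, and which holds for normal integral curves, holds in general. -/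
theorem induction
    (P : ∀ X : Scheme.{u}, (X ⟶ Spec (CommRingCat.of k)) → Prop)
    (hcov : ∀ {X : Scheme.{u}} (pX : X ⟶ Spec (CommRingCat.of k)) [IsProper pX] [ConnectedSpace X]
      (n : ℕ) (X' : Fin n → Scheme.{u}) (f : ∀ i, X' i ⟶ X) [∀ i, IsProper (f i)]
      [∀ i, IsIntegral (X' i)], (∀ x : X, ∃ i, x ∈ Set.range (f i)) →
      (∀ i, P (X' i) (f i ≫ pX)) → P X pX)
    (hlef : ∀ {X Y : Scheme.{u}} (pX : X ⟶ Spec (CommRingCat.of k)) [IsProper pX] [IsIntegral X]
      (i : Y ⟶ X) [IsClosedImmersion i] [ConnectedSpace Y] [IsReduced Y],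
      (FEt.restrict i).Full → (FEt.restrict i).Faithful →
      (∀ Z : FEt.Cat X, ConnectedSpace Z.left → ConnectedSpace ((FEt.restrict i).obj Z).left) →
      P Y (i ≫ pX) → P X pX)
    (hcurve : ∀ {X : Scheme.{u}} (pX : X ⟶ Spec (CommRingCat.of k)) [IsProper pX] [IsIntegral X],
      Pi1.IsNormalScheme X → topologicalKrullDim X ≤ 1 → P X pX) :
    ∀ (X : Scheme.{u}) (pX : X ⟶ Spec (CommRingCat.of k)), IsProper pX → ConnectedSpace X → P X pX := by
  have hQ : ∀ (n : ℕ) (Z : Scheme.{u}) (pZ : Z ⟶ Spec (CommRingCat.of k)), IsProper pZ → IsIntegral Z →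
      Pi1.IsNormalScheme Z → (∃ A : Z.Modules, CohB1.IsAmple A) →
      topologicalKrullDim Z ≤ (n : WithBot ℕ∞) → P Z pZ := by
    intro n
    induction n with
    | zero =>
      intro Z pZ _ _ hZn _ hd
      exact hcurve pZ hZn (hd.trans (by norm_num))
    | succ n ih =>
      intro Z pZ _ _ hZn hA hd
      by_cases h2 : topologicalKrullDim Z ≤ 1
      · exact hcurve pZ hZn h2
      have h2' : 2 ≤ topologicalKrullDim Z := by
        by_contra hcon
        rw [not_le] at hcon
        apply h2
        have h3 : topologicalKrullDim Z ≤ ((1 : ℕ) : WithBot ℕ∞) := by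
          rw [← ENat.WithBot.lt_add_one_iff]
          refine lt_of_lt_of_le hcon (le_of_eq ?_)
          norm_num
        exact h3
      obtain ⟨A, hA⟩ := hA
      obtain ⟨Y, i, hi, hYc, hYr, hYd, hff, hfa, hconn⟩ := LefStep.exists_section k pZ hZn h2' hA (n + 1) hd
      refine hlef pZ i hff hfa hconn ?_
      obtain ⟨m, W, g, hg, hW, hWn, hWA, hWd, hWs⟩ := exists_cover k (i ≫ pZ)
      refine hcov (i ≫ pZ) m W g hWs fun j => ?_
      refine ih (W j) _ inferInstance (hW j) (hWn j) (hWA j) ((hWd j).trans ?_)
      rw [← ENat.WithBot.lt_add_one_iff]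
      exact_mod_cast hYd
  intro X pX _ _
  obtain ⟨m, W, g, hg, hW, hWn, hWA, hWd, hWs⟩ := exists_cover k pX
  refine hcov pX m W g hWs fun j => ?_
  let _ : (W j).Over (Spec (CommRingCat.of k)) := ⟨g j ≫ pX⟩
  have : LocallyOfFiniteType ((W j) ↘ Spec (CommRingCat.of k)) :=
    inferInstanceAs (LocallyOfFiniteType (g j ≫ pX))
  refine hQ _ (W j) _ inferInstance (hW j) (hWn j) (hWA j)
    (VarietyB.DimSch.topologicalKrullDim_eq_trd k (X := W j)).le

end Groth.Agent.Pi1.H386.ProperInduction
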